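import Cfsg.Agent.Lib.PrimeBlock.SmallCofactor.Basic

/-!
# The exceptional degree `p - e`: the two-part of the order is `p - 1`
-/

set_option autoImplicit false
set_option linter.style.haveILetI false
set_option linter.unusedSectionVars false

namespace Cfsg.Agent.PrimeBlock.SmallCofactor

open Cfsg.Agent.Characters Cfsg.Agent.Blocks Subgroup
open Cfsg.Agent.PrimeBlock.Brauer Cfsg.Agent.SmallSimple
open scoped ComplexConjugate

universe u

variable {G : Type u} [Group G] [Finite G] [IsSimpleGroup G] {p : ℕ} [Fact p.Prime] {P : Sylow p G}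

omit [IsSimpleGroup G] in
/-- An eigenvalue of a character with distinct eigenvalues on `⟨x⟩` has multiplicity at most one. -/
theorem mult_one_le {χ : G → ℂ} (h : Cfsg.IsCharacter G χ) {x : G} (hx : x ^ p = 1) {n m : ℕ}
    (hn : χ 1 = (n : ℂ))
    (h1 : ∑ i ∈ Finset.range p, χ (x ^ i) * conj (χ (x ^ i)) = (p : ℂ) * n)
    (h2 : ∑ i ∈ Finset.range p, χ (x ^ i) = (p : ℂ) * m) : m ≤ 1 := by
  classical
  have hp : p ≠ 0 := (Fact.out : p.Prime).ne_zero
  obtain ⟨k, z, w, hk, hz, hsum⟩ := exists_eigen h hx (Commute.one_right x) (by simp)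
  obtain rfl : n = k := by exact_mod_cast hn.symm.trans hk
  have hterm : ∀ l m' : Fin n, ∑ i ∈ Finset.range p, z l ^ i * conj (z m') ^ i =
      if z l = z m' then (p : ℂ) else 0 := fun l m' => by
    rw [← sum_pow_div hp (hz l) (hz m')]
    refine Finset.sum_congr rfl fun i _ => ?_
    rw [div_eq_mul_inv, Complex.inv_eq_conj (Complex.norm_eq_one_of_pow_eq_one (hz m') hp), mul_pow]
  set U := Finset.univ.filter fun q : Fin n × Fin n => z q.1 = z q.2 with hU
  have hUn : U.card = n := by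
    simp only [(hsum _).1, map_sum, map_pow, Finset.sum_mul_sum] at h1
    rw [Finset.sum_comm, Finset.sum_congr rfl fun l _ => Finset.sum_comm] at h1
    simp only [hterm] at h1
    rw [← Finset.sum_product' (f := fun l m' => if z l = z m' then (p : ℂ) else 0), ← Finset.sum_filter,
      Finset.sum_const, nsmul_eq_mul, mul_comm] at h1
    exact_mod_cast mul_left_cancel₀ (Nat.cast_ne_zero.2 hp) h1
  set W := Finset.univ.filter fun l : Fin n => z l = 1 with hW
  have hWm : W.card = m := by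
    simp only [(hsum _).1] at h2
    rw [Finset.sum_comm, Finset.sum_congr rfl fun l _ => by
      have := sum_pow_div hp (hz l) (one_pow p)
      simp only [div_one] at this
      exact this, ← Finset.sum_filter, Finset.sum_const, nsmul_eq_mul, mul_comm] at h2
    exact_mod_cast mul_left_cancel₀ (Nat.cast_ne_zero.2 hp) h2
  by_contra hm
  obtain ⟨a, ha, c, hc, hac⟩ := Finset.one_lt_card.1 (show 1 < W.card by omega)
  have hsub : insert (a, c) (Finset.univ.image fun l : Fin n => (l, l)) ⊆ U := by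
    intro q hq
    rcases Finset.mem_insert.1 hq with rfl | hq
    · simp only [hU, hW, Finset.mem_filter, Finset.mem_univ, true_and] at ha hc ⊢
      rw [ha, hc]
    · obtain ⟨l, -, rfl⟩ := Finset.mem_image.1 hq
      simp [hU]
  have := Finset.card_le_card hsub
  rw [Finset.card_insert_of_notMem (by simp [hac]),
    Finset.card_image_of_injective _ fun a b e => (Prod.ext_iff.1 e).1, Finset.card_univ,
    Fintype.card_fin, hUn] at this
  omega

variable (D : PBlock P)

include D in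
/-- When `p = 2 e + 1` and the exceptional degree is `e + 1`, the block has a member of degree `p - 1`. -/
theorem exists_pred (hG : ¬ IsMulCommutative G)
    (hC : Nat.card (centralizer ((P : Subgroup G) : Set G)) = p)
    (hε : D.ε = -1) (hY2 : D.Y.card = 2)
    {f : ℕ} (hY : ∀ θ ∈ D.Y, deg θ = f) (hf : 5 ≤ f) (hp : p + 1 = 2 * f) :
    ∃ χ ∈ D.X, χ ≠ trivIrr G ∧ deg χ + 1 = p := by
  classical
  haveI := Fintype.ofFinite G
  haveI := Fintype.ofFinite (Cfsg.IrrCharacter G)
  have hp0 : p.Prime := Fact.out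
  have hpC : (p : ℂ) ≠ 0 := Nat.cast_ne_zero.2 hp0.ne_zero
  obtain ⟨x, hx1, hx⟩ := D.exists_ne_one
  obtain ⟨a, c, hac, hYac⟩ := Finset.card_eq_two.1 hY2
  have ha : a ∈ D.Y := by rw [hYac]; simp
  have hcY : c ∈ D.Y := by rw [hYac]; simp
  set S : (G → ℂ) → ℂ := fun g => ∑ i ∈ Finset.range p, g (x ^ i) with hS
  choose μ hμ using fun χ : Cfsg.IrrCharacter G =>
    sum_powers (irr_isCharacter χ) hp0.ne_zero (D.x_pow hx)
  have hnorm : ∀ θ ∈ D.Y, ∑ i ∈ Finset.range p, (θ : G → ℂ) (x ^ i) * conj ((θ : G → ℂ) (x ^ i)) =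
      (p : ℂ) * f := fun θ hθ => by
    rw [D.norm_small hθ (by rw [hY θ hθ]; omega) hx hx1, hY θ hθ]
  have hsumY : ∀ i ∈ (Finset.range p).erase 0, (a : G → ℂ) (x ^ i) + (c : G → ℂ) (x ^ i) = 1 := by
    intro i hi
    have := D.sum_Y (pow_mem hx i) (D.pow_ne_one hx hx1 (D.not_dvd_of_mem_erase hi))
    rw [hYac, Finset.sum_pair hac, hε] at this
    push_cast at this
    linear_combination this
  have hcastf : (p : ℂ) + 1 = 2 * (f : ℂ) := by exact_mod_cast hp
  -- the eigenvalue `1` occurs once in each exceptional character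
  have hμY : ∀ θ ∈ D.Y, μ θ = 1 := by
    have hle : ∀ θ ∈ D.Y, μ θ ≤ 1 := fun θ hθ => mult_one_le (irr_isCharacter θ) (D.x_pow hx)
      (n := f) (by rw [← deg_cast, hY θ hθ]) (hnorm θ hθ) (hμ θ)
    have h2 : (p : ℂ) * ((μ a + μ c : ℕ) : ℂ) = (p : ℂ) * (2 : ℕ) := by
      push_cast
      rw [mul_add, ← hμ a, ← hμ c, ← Finset.sum_add_distrib, range_split (p := p) D,
        Finset.sum_congr (s₁ := (Finset.range p).erase 0) rfl hsumY, Finset.sum_const,
        Finset.card_erase_of_mem (Finset.mem_range.2 hp0.pos), Finset.card_range, pow_zero,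
        ← deg_cast, ← deg_cast, hY a ha, hY c hcY, nsmul_eq_mul, Nat.cast_sub hp0.one_le]
      push_cast
      linear_combination -hcastf
    have h2' : μ a + μ c = 2 := by exact_mod_cast mul_left_cancel₀ hpC h2
    intro θ hθ
    have := hle a ha; have := hle c hcY
    rw [hYac] at hθ
    rcases Finset.mem_insert.1 hθ with rfl | hθ
    · omega
    · rw [Finset.mem_singleton.1 hθ]; omega
  -- the product
  set φ : G → ℂ := (a : G → ℂ) * fun g => conj ((c : G → ℂ) g) with hφ
  have hφc : Cfsg.IsCharacter G φ := isCharacter_mul (irr_isCharacter a) (isCharacter_conj (irr_isCharacter c))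
  obtain ⟨n, hn⟩ := char_eq_sum_nat (G := G) (χ := φ) hφc
  have hval : ∀ g, φ g = ∑ χ : Cfsg.IrrCharacter G, (n χ : ℂ) * (χ : G → ℂ) g := fun g => by
    have := congrFun hn g
    simpa [Finset.sum_apply, smul_eq_mul] using this
  have hn1 : n (trivIrr G) = 0 := by
    have h1 := classInner_sum_smul_irr (c := fun χ : Cfsg.IrrCharacter G => (n χ : ℂ)) Finset.univ
      (trivIrr G)
    rw [← hn, if_pos (Finset.mem_univ _)] at h1
    have h2 : Cfsg.classInner φ ((trivIrr G : Cfsg.IrrCharacter G) : G → ℂ) =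
        Cfsg.classInner (a : G → ℂ) (c : G → ℂ) := by
      rw [classInner_def, classInner_def]
      simp [φ]
    rw [h2, classInner_isIrr_ne a.2 c.2 fun e => hac (Subtype.ext e)] at h1
    exact_mod_cast h1.symm
  -- its fixed points on `P`
  obtain ⟨m, hm⟩ := sum_powers hφc hp0.ne_zero (D.x_pow hx)
  have hm1 : m = 1 := by
    have h1 : ∑ i ∈ Finset.range p, ((a : G → ℂ) (x ^ i) + (c : G → ℂ) (x ^ i)) *
        conj ((a : G → ℂ) (x ^ i) + (c : G → ℂ) (x ^ i)) = 4 * (f : ℂ) ^ 2 + ((p : ℂ) - 1) := by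
      rw [range_split (p := p) D, Finset.sum_congr (s₁ := (Finset.range p).erase 0) rfl fun i hi => by
        rw [hsumY i hi, map_one, one_mul], Finset.sum_const,
        Finset.card_erase_of_mem (Finset.mem_range.2 hp0.pos), Finset.card_range, pow_zero,
        ← deg_cast, ← deg_cast, hY a ha, hY c hcY, nsmul_eq_mul, Nat.cast_sub hp0.one_le]
      simp only [map_add, map_natCast, Nat.cast_one, mul_one]
      ring
    have h3 : ∑ i ∈ Finset.range p, ((a : G → ℂ) (x ^ i) + (c : G → ℂ) (x ^ i)) *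
        conj ((a : G → ℂ) (x ^ i) + (c : G → ℂ) (x ^ i)) =
        (p : ℂ) * f + (p : ℂ) * f + (∑ i ∈ Finset.range p, φ (x ^ i)) +
          conj (∑ i ∈ Finset.range p, φ (x ^ i)) := by
      conv_rhs => arg 1; arg 1; arg 1; rw [← hnorm a ha]
      conv_rhs => arg 1; arg 1; arg 2; rw [← hnorm c hcY]
      rw [map_sum, ← Finset.sum_add_distrib, ← Finset.sum_add_distrib, ← Finset.sum_add_distrib]
      refine Finset.sum_congr rfl fun i _ => ?_
      simp only [φ, Pi.mul_apply, map_add, map_mul, Complex.conj_conj]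
      ring
    rw [h1, hm, map_mul, map_natCast, map_natCast] at h3
    have h4 : (p : ℂ) * ((2 * m : ℕ) : ℂ) = (p : ℂ) * (2 : ℕ) := by
      push_cast
      linear_combination -h3 + (-2 * (f : ℂ) - 1) * hcastf
    have := mul_left_cancel₀ hpC h4
    have : 2 * m = 2 := by exact_mod_cast this
    omega
  have hμn : ∑ χ : Cfsg.IrrCharacter G, n χ * μ χ = 1 := by
    have h1 : (p : ℂ) * ((∑ χ : Cfsg.IrrCharacter G, n χ * μ χ : ℕ) : ℂ) = (p : ℂ) * (1 : ℕ) := by
      rw [show ((1 : ℕ) : ℂ) = (m : ℂ) by rw [hm1], ← hm]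
      simp only [hval]
      rw [Finset.sum_comm]
      push_cast
      rw [Finset.mul_sum]
      refine Finset.sum_congr rfl fun χ _ => ?_
      rw [← Finset.mul_sum, hμ χ]
      ring
    exact_mod_cast mul_left_cancel₀ hpC h1
  -- the possible degrees
  by_contra hcon
  push Not at hcon
  have hclass : ∀ χ : Cfsg.IrrCharacter G, χ ≠ trivIrr G →
      μ χ ≠ 0 ∧ (μ χ = 1 → deg χ = f ∨ deg χ = p ∨ deg χ + 1 = 2 * p) := by
    intro χ hne
    by_cases hB : χ ∈ Cfsg.principalBlock D.M G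
    · rcases (D.mem_block χ).1 hB with hX | hYm
      · have h1 : (deg χ : ℤ) + ((p : ℤ) - 1) * D.sgn χ = (p : ℤ) * μ χ := by
          have h2 : (((deg χ : ℤ) + ((p : ℤ) - 1) * D.sgn χ : ℤ) : ℂ) = (((p : ℤ) * μ χ : ℤ) : ℂ) := by
            push_cast
            rw [← hμ χ, range_split (p := p) D, Finset.sum_congr (s₁ := (Finset.range p).erase 0) rfl
              fun i hi => D.val_X' hX (pow_mem hx i) (D.pow_ne_one hx hx1 (D.not_dvd_of_mem_erase hi)),
              Finset.sum_const, Finset.card_erase_of_mem (Finset.mem_range.2 hp0.pos), Finset.card_range,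
              pow_zero, ← deg_cast, nsmul_eq_mul, Nat.cast_sub hp0.one_le]
            push_cast
            ring
          exact_mod_cast h2
        have hd1 := deg_ne_one hG hne
        have hd0 : 0 < deg χ := charDegree_pos χ
        have hne' := hcon χ hX hne
        refine ⟨fun h0 => ?_, fun h0 => ?_⟩ <;> rw [h0] at h1 <;>
          rcases D.sgn_eq χ hX with e | e <;> rw [e] at h1 <;> push_cast at h1 <;> omega
      · exact ⟨by rw [hμY χ hYm]; omega, fun _ => Or.inl (hY χ hYm)⟩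
    · have h1 : deg χ = p * μ χ := by
        have h2 : ((deg χ : ℕ) : ℂ) = ((p * μ χ : ℕ) : ℂ) := by
          push_cast
          rw [← hμ χ, range_split (p := p) D, Finset.sum_eq_zero fun i hi =>
            D.eq_zero_of_notMem hC hB (pow_mem hx i) (D.pow_ne_one hx hx1 (D.not_dvd_of_mem_erase hi)),
            pow_zero, ← deg_cast, add_zero]
        exact_mod_cast h2
      have hd0 : 0 < deg χ := charDegree_pos χ
      exact ⟨fun h0 => by rw [h0, mul_zero] at h1; omega, fun h0 => Or.inr (Or.inl (by rw [h1, h0, mul_one]))⟩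
  obtain ⟨χ₁, -, hχ₁⟩ := Finset.exists_ne_zero_of_sum_ne_zero (s := Finset.univ)
    (f := fun χ : Cfsg.IrrCharacter G => n χ * μ χ) (by rw [hμn]; exact one_ne_zero)
  have hsplit := Finset.add_sum_erase Finset.univ (fun χ : Cfsg.IrrCharacter G => n χ * μ χ)
    (Finset.mem_univ χ₁)
  rw [hμn] at hsplit
  have h11 : n χ₁ * μ χ₁ = 1 := by omega
  have hrest : ∀ χ ∈ (Finset.univ : Finset (Cfsg.IrrCharacter G)).erase χ₁, n χ = 0 := by
    intro χ hχ
    have hz : ∑ χ ∈ (Finset.univ : Finset (Cfsg.IrrCharacter G)).erase χ₁, n χ * μ χ = 0 := by omega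
    have h0 : n χ * μ χ = 0 := Finset.sum_eq_zero_iff.1 hz χ hχ
    by_cases hne : χ = trivIrr G
    · rw [hne, hn1]
    · exact (Nat.mul_eq_zero.1 h0).resolve_right (hclass χ hne).1
  have hne1 : χ₁ ≠ trivIrr G := fun e => by rw [e, hn1, zero_mul] at h11; omega
  have hdeg : f * f = deg χ₁ := by
    have h1 := hval 1
    rw [← Finset.add_sum_erase _ _ (Finset.mem_univ χ₁), Finset.sum_eq_zero fun χ hχ => by
      rw [hrest χ hχ, Nat.cast_zero, zero_mul], add_zero, Nat.eq_one_of_mul_eq_one_right h11] at h1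
    simp only [φ, Pi.mul_apply, ← deg_cast, map_natCast, hY a ha, hY c hcY, Nat.cast_one, one_mul] at h1
    exact_mod_cast h1
  have h5 : 5 * f ≤ f * f := Nat.mul_le_mul_right f hf
  rcases (hclass χ₁ hne1).2 (Nat.eq_one_of_mul_eq_one_left h11) with h | h | h <;> nlinarith

omit [Fact p.Prime] [IsSimpleGroup G] in
theorem no_count_minus {j a a₁ c : ℕ} {f : ℕ} (hj : 2 ≤ j) (hf : f = 2 ^ j + 1) (hle : a + a₁ + c + 1 ≤ 2 ^ j)
    (h : (2 : ℤ) ^ (2 * (j + 1)) ∣ 2 * (f : ℤ) * a - 2 ^ (j + 1) * a₁ - 2 ^ (j + 2) * (f : ℤ) * c) :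
    a₁ = 0 := by
  obtain ⟨t, rfl⟩ : ∃ t, j = t + 2 := ⟨j - 2, by omega⟩
  subst hf
  set A : ℤ := 2 ^ (t + 2) with hA
  have e1 : (2 : ℤ) ^ (t + 2 + 1) = 2 * A := by rw [hA, pow_succ]; ring
  have e2 : (2 : ℤ) ^ (2 * (t + 2 + 1)) = 4 * A * A := by rw [mul_comm 2 (t + 2 + 1), pow_mul, e1]; ring
  have e3 : (2 : ℤ) ^ (t + 2 + 2) = 4 * A := by rw [hA, pow_add]; ring
  push_cast at h
  rw [e1, e2, e3, ← hA] at h
  have hA0 : 0 < A := pow_pos two_pos _
  have hleA : (a : ℤ) + a₁ + c + 1 ≤ A := by rw [hA]; exact_mod_cast hle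
  obtain ⟨w, hw⟩ := h
  have ha : (A : ℤ) ∣ (a : ℤ) := ⟨2 * A * w - a + a₁ + 2 * (A + 1) * c, by linarith⟩
  have ha0 : (a : ℤ) = 0 := by
    by_contra hne
    have := Int.le_of_dvd (by have := Int.natCast_nonneg a; omega) ha
    have := Int.natCast_nonneg a₁
    have := Int.natCast_nonneg c
    omega
  rw [ha0] at hw
  have h2 : (2 * A) ∣ ((a₁ : ℤ) + 2 * c) := by
    refine ⟨-w - c, mul_left_cancel₀ (show (2 * A) ≠ 0 by omega) ?_⟩
    linarith
  by_contra hne
  have := Int.le_of_dvd (by have := Int.natCast_nonneg c; omega) h2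
  omega

include D in
/-- The two-part of the order is `p - 1`. -/
theorem minus_exponent (hG : ¬ IsMulCommutative G)
    (hC : Nat.card (centralizer ((P : Subgroup G) : Set G)) = p)
    (ht : trivIrr G ∈ D.X) (hts : D.sgn (trivIrr G) = 1)
    (hX : ∀ χ ∈ D.X, χ ≠ trivIrr G → 2 ∣ deg χ) {j b f : ℕ} (hj : 1 ≤ j) (he : D.e = 2 ^ j)
    (hef : f + D.e = p) (h2e : 2 * D.e + 1 ≤ p) (hY : ∀ θ ∈ D.Y, deg θ = f) (hε : D.ε = -1)
    (hcard : Nat.card G = p * (2 ^ b * f)) : p = 2 ^ b + 1 := by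
  classical
  haveI := Fintype.ofFinite (Cfsg.IrrCharacter G)
  have hp0 : p.Prime := Fact.out
  have he2 : 2 ≤ D.e := by rw [he]; exact Nat.le_self_pow (by omega) 2
  have hn : D.e * Nat.card (Sylow p G) = 2 ^ b * f := card_of_group D hC hcard
  have hepd := D.e_dvd
  have hfodd : ¬ 2 ∣ f := fun h => by
    have h2 : 2 ∣ D.e := he ▸ dvd_pow_self 2 (by omega)
    have h3 : 2 ∣ p := hef ▸ dvd_add h h2
    exact D.odd ((Nat.prime_dvd_prime_iff_eq Nat.prime_two hp0).1 h3).symm
  have hmod : p ∣ 2 ^ b + 1 := by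
    obtain ⟨c, hc⟩ := (Nat.modEq_iff_dvd' Nat.card_pos).1 (card_sylow_modEq_one p G).symm
    have hc' : Nat.card (Sylow p G) = 1 + p * c := by
      have := Nat.card_pos (α := Sylow p G)
      omega
    rw [hc'] at hn
    have h3 : p ∣ D.e * (2 ^ b + 1) := by
      have h6 : 2 ^ b * p = 2 ^ b * f + 2 ^ b * D.e := by rw [← Nat.mul_add, hef]
      have h4 : 2 ^ b * p = (2 ^ b + 1) * D.e + D.e * (p * c) := by linarith
      have h5 : p ∣ (2 ^ b + 1) * D.e + D.e * (p * c) := h4 ▸ dvd_mul_left _ _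
      rw [mul_comm D.e]
      exact (Nat.dvd_add_left (dvd_mul_of_dvd_right (dvd_mul_right _ _) _)).1 h5
    exact (hp0.dvd_mul.1 h3).resolve_left fun h => by
      have := Nat.le_of_dvd (by omega) h
      omega
  have hge : p ≤ 2 ^ b + 1 := Nat.le_of_dvd (Nat.succ_pos _) hmod
  have hb0 : 1 ≤ b := by
    by_contra hb
    obtain rfl : b = 0 := by omega
    norm_num at hge
    omega
  have h2G : 2 ∣ Nat.card G :=
    hcard ▸ dvd_mul_of_dvd_right (dvd_mul_of_dvd_left (dvd_pow_self 2 (by omega)) _) _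
  have hfac : b ≤ (Nat.card G).factorization 2 :=
    (Nat.prime_two.pow_dvd_iff_le_factorization Nat.card_pos.ne').1
      (hcard ▸ dvd_mul_of_dvd_right (dvd_mul_right _ _) _)
  obtain ⟨S, hS, hpure, hdvd⟩ := congr_two D hC hG ht h2G hX hY
  have hdvdb : (2 : ℤ) ^ b ∣ 1 + (f : ℤ) + ∑ χ ∈ S, D.sgn χ * (deg χ : ℤ) := by
    have := (pow_dvd_pow 2 hfac).trans hdvd
    rw [hε] at this
    simpa [sub_eq_add_neg] using this
  have hrel : ∑ χ ∈ D.X.erase (trivIrr G), D.sgn χ * (deg χ : ℤ) = -(1 + (f : ℤ)) := by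
    obtain ⟨θ, hθ⟩ := D.Y_nonempty
    have := D.rel_one hθ
    rw [← Finset.add_sum_erase _ _ ht, hts, deg_trivIrr, hε, hY θ hθ] at this
    push_cast at this
    linarith
  -- a small degree forces `j = 1` or `p = 2 e + 1`
  rcases Nat.lt_or_ge j 2 with hj1 | hj2
  · obtain rfl : j = 1 := by omega
    rw [pow_one] at he
    have hcardX : (D.X.erase (trivIrr G)).card = 1 := by
      rw [Finset.card_erase_of_mem ht, D.card_X, he]
    obtain ⟨χ, hχ⟩ := Finset.card_eq_one.1 hcardX
    have hχm : χ ∈ D.X.erase (trivIrr G) := by rw [hχ]; simp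
    rw [hχ, Finset.sum_singleton] at hrel
    have hd : deg χ + 1 = p := by
      rcases D.sgn_eq χ (Finset.mem_erase.1 hχm).2 with e | e <;> rw [e] at hrel <;> omega
    obtain ⟨i, d, hid, hd2, hdf⟩ := degree_split D (Finset.mem_erase.1 hχm).2 hcard
    have hd1 : d = 1 := by
      have h1 : d ∣ deg χ := hid ▸ dvd_mul_left _ _
      have h2 : d ∣ f + 1 := by
        rwa [show f + 1 = deg χ by omega]
      exact Nat.dvd_one.1 ((Nat.dvd_add_right hdf).1 h2)
    have hSe : S = ∅ := Finset.eq_empty_of_forall_notMem fun ψ hψ => by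
      have := hS hψ
      rw [hχ, Finset.mem_singleton] at this
      subst this
      exact hpure ψ hψ i (by rw [hid, hd1, mul_one])
    rw [hSe, Finset.sum_empty, add_zero] at hdvdb
    have h6 : 2 ^ b ∣ 1 + f := by exact_mod_cast hdvdb
    have := Nat.le_of_dvd (by omega) h6
    omega
  -- some member has degree `2 (mod 4)`
  have he4 : 4 ∣ D.e := by
    rw [he, show j = 2 + (j - 2) by omega, pow_add]
    exact dvd_mul_right _ _
  obtain ⟨χ₀, hχ₀, h4⟩ : ∃ χ ∈ D.X.erase (trivIrr G), ¬ 4 ∣ deg χ := by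
    by_contra hcon
    push Not at hcon
    have h1 : (4 : ℤ) ∣ -(1 + (f : ℤ)) := hrel ▸ Finset.dvd_sum fun χ hχ =>
      dvd_mul_of_dvd_right (Int.natCast_dvd_natCast.2 (hcon χ hχ)) _
    have h2 : (4 : ℤ) ∣ (p : ℤ) - 1 := by
      have := Int.natCast_dvd_natCast.2 (he4.trans hepd)
      rwa [Nat.cast_sub hp0.one_le] at this
    have h3 : (4 : ℤ) ∣ D.e := Int.natCast_dvd_natCast.2 he4
    omega
  have hp2e : p = 2 * D.e + 1 := by
    have hm := Finset.mem_erase.1 hχ₀
    obtain ⟨i, d, hid, hd2, hdf⟩ := degree_split D hm.2 hcard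
    have hi : i = 1 := by
      rcases Nat.lt_or_ge i 2 with h | h
      · interval_cases i
        · rw [pow_zero, one_mul] at hid
          exact absurd (hid ▸ hX χ₀ hm.2 hm.1) hd2
        · rfl
      · refine absurd (hid ▸ dvd_mul_of_dvd_left ?_ d) h4
        rw [show i = 2 + (i - 2) by omega, pow_add]
        exact dvd_mul_right _ _
    rw [hi, pow_one] at hid
    obtain ⟨u, hu⟩ : (p : ℤ) ∣ (deg χ₀ : ℤ) - D.sgn χ₀ := Int.ModEq.dvd (D.deg_X χ₀ hm.2).symm
    have hd1 := deg_ne_one hG hm.1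
    have hd0 : 0 < deg χ₀ := charDegree_pos χ₀
    have hsg := D.sgn_eq χ₀ hm.2
    have hu0 : 0 < u := by
      by_contra hh
      push Not at hh
      have : (p : ℤ) * u ≤ 0 := mul_nonpos_of_nonneg_of_nonpos (Int.natCast_nonneg p) hh
      omega
    have hdz : (d : ℤ) ∣ u * D.e + D.sgn χ₀ := by
      have h1 : (d : ℤ) ∣ (p : ℤ) * u + D.sgn χ₀ := by
        rw [show (p : ℤ) * u + D.sgn χ₀ = (deg χ₀ : ℤ) by omega, hid]
        push_cast
        exact dvd_mul_left _ _
      have h2 : (d : ℤ) ∣ u * f := dvd_mul_of_dvd_right (Int.natCast_dvd_natCast.2 hdf) _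
      have h3 := dvd_sub h1 h2
      have hefZ : (f : ℤ) + D.e = p := by exact_mod_cast hef
      rwa [show (p : ℤ) * u + D.sgn χ₀ - u * f = u * D.e + D.sgn χ₀ by linear_combination (-u) * hefZ] at h3
    have heZ : (2 : ℤ) ≤ D.e := by exact_mod_cast he2
    have hue : (2 : ℤ) ≤ u * D.e := by
      have := mul_le_mul (show (1 : ℤ) ≤ u by omega) heZ (by norm_num) (by omega)
      linarith
    have hle := Int.le_of_dvd (by omega) hdz
    have h5 : (deg χ₀ : ℤ) = 2 * d := by exact_mod_cast hid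
    have h6 : u * ((p : ℤ) - 2 * D.e) ≤ D.sgn χ₀ := by linarith
    have hpe : (1 : ℤ) ≤ (p : ℤ) - 2 * D.e := by omega
    have h7 : 1 * ((p : ℤ) - 2 * D.e) ≤ u * ((p : ℤ) - 2 * D.e) :=
      mul_le_mul_of_nonneg_right (by omega) (by omega)
    omega
  -- now `p = 2 ^ (j + 1) + 1`
  have hf : f = 2 ^ j + 1 := by omega
  have hpj : p = 2 ^ (j + 1) + 1 := by rw [pow_succ, ← he]; omega
  have hj4 : 4 ≤ 2 ^ j := by
    have : 2 ^ 2 ≤ 2 ^ j := Nat.pow_le_pow_right two_pos hj2
    norm_num at this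
    exact this
  have hsq : (2 : ZMod p) ^ (j + 1) = -1 := by
    have : ((2 ^ (j + 1) + 1 : ℕ) : ZMod p) = 0 := by rw [← hpj]; simp
    push_cast at this
    linear_combination this
  have hlow : 2 ^ (j + 1 - 2) < 2 ^ j := Nat.pow_lt_pow_right one_lt_two (by omega)
  have hps : p = 2 * 2 ^ j + 1 := by rw [hpj, pow_succ]; ring
  have hsmall : f + 2 ^ (j + 1 - 2) < p := by
    generalize 2 ^ (j + 1 - 2) = y at hlow ⊢
    generalize 2 ^ j = z at hlow hf hps
    omega
  have hlt : 2 ^ (j + 1 - 1) < p := by rw [Nat.add_sub_cancel]; omega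
  suffices b = j + 1 by rw [this]; exact hpj
  by_contra hne
  have hbr : b % (j + 1) = 0 := by
    have hbc : ((2 ^ b * 1 : ℕ) : ZMod p) = -1 := by
      have h := (ZMod.natCast_eq_zero_iff _ p).2 hmod
      push_cast at h ⊢
      linear_combination h
    rcases odd_part (p := p) (M := j + 1) (f := f) (by omega) (Or.inr hsq) hlt hsmall (by omega)
      (d := 1) (by norm_num) (by omega) (Or.inr rfl) hbc with ⟨-, h⟩ | ⟨-, h⟩
    · exact h
    · rw [Nat.add_sub_cancel] at h; omega
  have hbM : 2 * (j + 1) ≤ b := by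
    have h1 := Nat.div_add_mod b (j + 1)
    rw [hbr, add_zero] at h1
    rcases Nat.lt_or_ge (b / (j + 1)) 2 with h | h
    · interval_cases h2 : b / (j + 1) <;> omega
    · have := Nat.mul_le_mul_left (j + 1) h
      omega
  set T := (D.X.erase (trivIrr G)) \ S with hT
  have hTsum : (2 : ℤ) ^ (2 * (j + 1)) ∣ ∑ χ ∈ T, D.sgn χ * (deg χ : ℤ) := by
    refine (pow_dvd_pow 2 hbM).trans ?_
    have := Finset.sum_sdiff (f := fun χ => D.sgn χ * (deg χ : ℤ)) hS
    rw [hrel] at this
    rw [show ∑ χ ∈ T, D.sgn χ * (deg χ : ℤ) = -(1 + (f : ℤ) + ∑ χ ∈ S, D.sgn χ * (deg χ : ℤ)) by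
      rw [hT]; linarith]
    exact hdvdb.neg_right
  let A := fun χ : Cfsg.IrrCharacter G => deg χ = 2 * f
  let A₁ := fun χ : Cfsg.IrrCharacter G => deg χ = 2 ^ (j + 1)
  let B := fun χ : Cfsg.IrrCharacter G => deg χ = 2 ^ (j + 2) * f
  have hpZ : (p : ℤ) = 2 ^ (j + 1) + 1 := by exact_mod_cast hpj
  have hfZ : (f : ℤ) = 2 ^ j + 1 := by exact_mod_cast hf
  have hterm : ∀ χ ∈ T, (2 : ℤ) ^ (2 * (j + 1)) ∣ D.sgn χ * (deg χ : ℤ) -
      ((if A χ then 2 * (f : ℤ) else 0) + (if A₁ χ then -(2 : ℤ) ^ (j + 1) else 0) +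
        (if B χ then -(2 : ℤ) ^ (j + 2) * (f : ℤ) else 0)) := by
    intro χ hχ
    have hm := Finset.mem_erase.1 (Finset.mem_sdiff.1 hχ).1
    have hf2 : ∀ k, 2 * f ≠ 2 ^ (k + 2) := fun k hk => hfodd ⟨2 ^ k, by rw [pow_add] at hk; omega⟩
    have h12 : 2 * f ≠ 2 ^ (j + 1) := by
      have := hf2 (j - 1); rwa [show j - 1 + 2 = j + 1 by omega] at this
    have h13 : 2 * f ≠ 2 ^ (j + 2) * f := fun h => by
      have := Nat.eq_of_mul_eq_mul_right (show 0 < f by omega) h
      rw [pow_add] at this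
      omega
    have h23 : 2 ^ (j + 1) ≠ 2 ^ (j + 2) * f := fun h => by
      rw [pow_succ 2 (j + 1), mul_assoc] at h
      have := Nat.le_mul_of_pos_right (2 ^ (j + 1)) (show 0 < 2 * f by omega)
      have h' : 2 ^ (j + 1) * 1 = 2 ^ (j + 1) * (2 * f) := by rw [mul_one]; exact h
      have := Nat.eq_of_mul_eq_mul_left (Nat.two_pow_pos _) h'
      omega
    by_cases hA : A χ
    · have hA' : deg χ = 2 * f := hA
      rw [if_pos hA, if_neg (show ¬ A₁ χ from fun h => h12 (hA'.symm.trans h)),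
        if_neg (show ¬ B χ from fun h => h13 (hA'.symm.trans h)),
        sgn_of_eq D hm.2 (c := 1) (Or.inl rfl) ⟨1, by rw [hA', hpZ]; push_cast; rw [hfZ, pow_succ]; ring⟩,
        hA']
      push_cast
      exact ⟨0, by ring⟩
    by_cases hA₁ : A₁ χ
    · have hA' : deg χ = 2 ^ (j + 1) := hA₁
      rw [if_neg hA, if_pos hA₁, if_neg (show ¬ B χ from fun h => h23 (hA'.symm.trans h)),
        sgn_of_eq D hm.2 (c := -1) (Or.inr rfl) ⟨1, by rw [hA', hpZ]; push_cast; ring⟩, hA']
      push_cast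
      exact ⟨0, by ring⟩
    by_cases hB : B χ
    · have hA' : deg χ = 2 ^ (j + 2) * f := hB
      rw [if_neg hA, if_neg hA₁, if_pos hB,
        sgn_of_eq D hm.2 (c := -1) (Or.inr rfl) ⟨2 ^ (j + 1) + 1, by
          rw [hA', hpZ]; push_cast; rw [hfZ, pow_add, pow_add]; ring⟩, hA']
      push_cast
      exact ⟨0, by ring⟩
    rw [if_neg hA, if_neg hA₁, if_neg hB]
    simp only [add_zero, sub_zero]
    obtain ⟨i, d, hid, hd, hdf⟩ := degree_split D hm.2 hcard
    refine dvd_mul_of_dvd_right ?_ _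
    suffices 2 * (j + 1) ≤ i by
      rw [hid]; push_cast
      exact dvd_mul_of_dvd_left (pow_dvd_pow 2 this) _
    have hcong : ((2 ^ i * d : ℕ) : ZMod p) = (D.sgn χ : ZMod p) := by
      have h := (ZMod.intCast_eq_intCast_iff _ _ p).2 (D.deg_X χ hm.2)
      rw [← hid]
      exact_mod_cast h
    have hc : (D.sgn χ : ZMod p) = 1 ∨ (D.sgn χ : ZMod p) = -1 := by
      rcases D.sgn_eq χ hm.2 with e | e <;> rw [e] <;> simp
    have hdm := Nat.div_add_mod i (j + 1)
    by_contra hi2
    have hq : i / (j + 1) < 2 := by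
      by_contra hh
      have := Nat.mul_le_mul_left (j + 1) (show 2 ≤ i / (j + 1) by omega)
      omega
    rcases odd_part (p := p) (M := j + 1) (f := f) (by omega) (Or.inr hsq) hlt hsmall (by omega) hd
      (Nat.le_of_dvd (by omega) hdf) hc hcong with ⟨rfl, hi⟩ | ⟨hi, hdp⟩
    · rw [hi, add_zero] at hdm
      interval_cases hq2 : i / (j + 1)
      · rw [mul_zero] at hdm
        subst hdm
        exact deg_ne_one hG hm.1 (by rw [hid]; norm_num)
      · refine hA₁ ?_
        show deg χ = 2 ^ (j + 1)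
        rw [hid, ← hdm, mul_one, mul_one]
    · rw [Nat.add_sub_cancel] at hdp
      have hdd : d = f := by omega
      rw [hi] at hdm
      interval_cases hq2 : i / (j + 1)
      · refine hA ?_
        show deg χ = 2 * f
        rw [hid, ← hdm, hdd, mul_zero, zero_add, pow_one]
      · refine hB ?_
        show deg χ = 2 ^ (j + 2) * f
        rw [hid, ← hdm, hdd, mul_one]
  have h := dvd_sub hTsum (Finset.dvd_sum hterm)
  rw [Finset.sum_sub_distrib, sub_sub_cancel, Finset.sum_add_distrib, Finset.sum_add_distrib,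
    ← Finset.sum_filter, ← Finset.sum_filter, ← Finset.sum_filter, Finset.sum_const, Finset.sum_const,
    Finset.sum_const, nsmul_eq_mul, nsmul_eq_mul, nsmul_eq_mul] at h
  have hle : (T.filter A).card + (T.filter A₁).card + (T.filter B).card + 1 ≤ 2 ^ j := by
    have hd1 : Disjoint (T.filter A) (T.filter A₁) := Finset.disjoint_filter.2 fun χ _ h1 h2 => by
      have h1' : deg χ = 2 * f := h1
      have h2' : deg χ = 2 ^ (j + 1) := h2
      refine hfodd ⟨2 ^ (j - 1), ?_⟩
      rw [← pow_succ', show j - 1 + 1 = j by omega]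
      rw [h1', pow_succ] at h2'
      omega
    have hd2 : Disjoint (T.filter A ∪ T.filter A₁) (T.filter B) := by
      rw [← Finset.filter_or]
      refine Finset.disjoint_filter.2 fun χ _ h1 h2 => ?_
      have h2' : deg χ = 2 ^ (j + 2) * f := h2
      have h8 : 2 ^ (j + 2) * f = 2 ^ j * (4 * f) := by rw [pow_add]; ring
      have h9 : 4 * (4 * f) ≤ 2 ^ j * (4 * f) := Nat.mul_le_mul_right _ hj4
      rcases h1 with h1 | h1
      · have h1' : deg χ = 2 * f := h1
        omega
      · have h1' : deg χ = 2 ^ (j + 1) := h1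
        rw [pow_succ] at h1'
        have : 2 ^ j * (4 * f) = 2 ^ j * 2 := by omega
        have := Nat.eq_of_mul_eq_mul_left (Nat.two_pow_pos j) this
        omega
    have h1 : ((T.filter A ∪ T.filter A₁) ∪ T.filter B).card ≤ (D.X.erase (trivIrr G)).card :=
      Finset.card_le_card ((Finset.union_subset (Finset.union_subset (Finset.filter_subset _ _)
        (Finset.filter_subset _ _)) (Finset.filter_subset _ _)).trans Finset.sdiff_subset)
    rw [Finset.card_union_of_disjoint hd2, Finset.card_union_of_disjoint hd1,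
      Finset.card_erase_of_mem ht, D.card_X, he] at h1
    omega
  have ha1 := no_count_minus (a := (T.filter A).card) (a₁ := (T.filter A₁).card) (c := (T.filter B).card)
    hj2 hf hle ((congrArg ((2 : ℤ) ^ (2 * (j + 1)) ∣ ·) (by ring)).mp h)
  -- but there is a member of degree `p - 1`
  have hY2 : D.Y.card = 2 := by
    rw [D.card_Y, show p - 1 = 2 * D.e by omega, Nat.mul_div_cancel _ D.e_pos]
  obtain ⟨χ, hχ, hne1, hd⟩ := exists_pred D hG hC hε hY2 hY (by omega) (by omega)
  have hd' : deg χ = 2 ^ (j + 1) := by omega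
  rw [Finset.card_eq_zero, Finset.filter_eq_empty_iff] at ha1
  refine ha1 (Finset.mem_sdiff.2 ⟨Finset.mem_erase.2 ⟨hne1, hχ⟩, fun hs => hpure χ hs (j + 1) hd'⟩) ?_
  exact hd'

end Cfsg.Agent.PrimeBlock.SmallCofactor
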