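import Cfsg.Agent.Lib.PrimeBlock.SmallCofactor.Plus
import Cfsg.Agent.Lib.PrimeBlock.SmallCofactor.Minus

/-!
# Simple groups of order `p q^b g` with `g < p - 1`
-/

set_option autoImplicit false
set_option linter.style.haveILetI false
set_option linter.unusedSectionVars false

namespace Cfsg.Agent.PrimeBlock.SmallCofactor

open Cfsg.Agent.Characters Cfsg.Agent.Blocks Subgroup
open Cfsg.Agent.PrimeBlock.Brauer Cfsg.Agent.SmallSimple

universe u

variable {G : Type u} [Group G] [Finite G] [IsSimpleGroup G] {p : ℕ} [Fact p.Prime]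

set_option maxHeartbeats 800000 in
theorem classify (hG : ¬ IsMulCommutative G) {q b g : ℕ} (hq : q.Prime) (hpq : p ≠ q)
    (hcard : Nat.card G = p * (q ^ b * g)) (hqg : ¬ q ∣ g) (hg : g + 1 < p) :
    (∃ m : ℕ, p = 2 ^ m + 1 ∨ p = 2 ^ m - 1) ∧
    ((∃ (F : Type) (_ : Field F) (_ : Fintype F), Fintype.card F = p ∧ 3 < p ∧
      Nonempty (G ≃* Matrix.ProjectiveSpecialLinearGroup (Fin 2) F)) ∨
    (∃ (m : ℕ) (F : Type) (_ : Field F) (_ : Fintype F), Fintype.card F = 2 ^ m ∧ p = 2 ^ m + 1 ∧ 3 < p ∧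
      Nonempty (G ≃* Matrix.ProjectiveSpecialLinearGroup (Fin 2) F))) := by
  classical
  have hp : p.Prime := Fact.out
  have hg0 : 0 < g := Nat.pos_of_ne_zero fun e => by
    have := Nat.card_pos (α := G)
    rw [hcard, e, mul_zero, mul_zero] at this
    omega
  have hpm : ¬ p ∣ q ^ b * g := fun h => (hp.dvd_mul.1 h).elim
    (fun h => hpq ((Nat.prime_dvd_prime_iff_eq hp hq).1 (hp.dvd_of_dvd_pow h)))
    (fun h => by have := Nat.le_of_dvd hg0 h; omega)
  obtain ⟨P⟩ : Nonempty (Sylow p G) := inferInstance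
  have hP : Nat.card (P : Subgroup G) = p := by
    rw [Basic.card_sylow_eq_pow (a := 1) (by rw [pow_one]; exact hcard) hpm P, pow_one]
  obtain ⟨e, hed, he1, hNe, -⟩ := Centralize.centralizer_data hG P hP
  have hp2 : p ≠ 2 := by
    rintro rfl
    have := Nat.le_of_dvd (by norm_num) hed
    omega
  obtain ⟨D, ht, hts⟩ := exists_pblock' hG hp2 P hP
  have heD : D.e = e := by
    have := relIndex_mul_relIndex ⊥ (centralizer ((P : Subgroup G) : Set G))
      (normalizer ((P : Subgroup G) : Set G)) bot_le (centralizer_le_normalizer _)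
    rw [relIndex_bot_left, relIndex_bot_left, D.he, hNe] at this
    exact Nat.eq_of_mul_eq_mul_left Nat.card_pos this
  subst heD
  -- degrees prime to `q` divide `g`
  have hsmall : ∀ χ ∈ Cfsg.principalBlock D.M G, ¬ q ∣ deg χ → deg χ ∣ g := by
    intro χ hχ hnd
    have h := char_degree_dvd_card χ
    rw [hcard, show Cfsg.charDegree (χ : G → ℂ) = deg χ from rfl] at h
    exact ((hq.coprime_iff_not_dvd.2 hnd).symm.pow_right b).dvd_of_dvd_mul_left
      ((((Fact.out : p.Prime).coprime_iff_not_dvd.2 (D.not_dvd_deg hχ)).symm).dvd_of_dvd_mul_left h)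
  have hX : ∀ χ ∈ D.X, χ ≠ trivIrr G → q ∣ deg χ := by
    intro χ hχ hne
    by_contra hnd
    have hle := Nat.le_of_dvd hg0 (hsmall χ ((D.mem_block χ).2 (Or.inl hχ)) hnd)
    obtain ⟨u, hu⟩ : (p : ℤ) ∣ (deg χ : ℤ) - D.sgn χ := Int.ModEq.dvd (D.deg_X χ hχ).symm
    have hd1 := deg_ne_one hG hne
    have hd0 : 0 < deg χ := charDegree_pos χ
    rcases lt_trichotomy u 0 with h | rfl | h
    · have : (p : ℤ) * u ≤ (p : ℤ) * (-1) := mul_le_mul_of_nonneg_left (by omega) (Int.natCast_nonneg p)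
      rcases D.sgn_eq χ hχ with e | e <;> rw [e] at hu <;> omega
    · rcases D.sgn_eq χ hχ with e | e <;> rw [e] at hu <;> omega
    · have : (p : ℤ) * 1 ≤ (p : ℤ) * u := mul_le_mul_of_nonneg_left (by omega) (Int.natCast_nonneg p)
      rcases D.sgn_eq χ hχ with e | e <;> rw [e] at hu <;> omega
  obtain ⟨θ, hθB, hθne, hθq⟩ := D.exists_deg_not_dvd hq.one_lt
  have hθ : θ ∈ D.Y := ((D.mem_block θ).1 hθB).resolve_left fun h => hθq (hX θ h hθne)
  have hfg : deg θ ∣ g := hsmall θ hθB hθq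
  have hfle : deg θ ≤ g := Nat.le_of_dvd hg0 hfg
  have hlt : deg θ < p := by omega
  have hC := D.card_centralizer hG hθB hθne hlt
  have hY : ∀ θ' ∈ D.Y, deg θ' = deg θ := fun θ' h => D.deg_Y_eq h hθ
  have hf1 := deg_ne_one hG hθne
  have hrelq : (q : ℤ) ∣ D.ε * (deg θ : ℤ) - 1 := by
    have := D.rel_one hθ
    rw [← Finset.add_sum_erase _ _ ht, hts, deg_trivIrr] at this
    rw [this]
    simp only [Nat.cast_one, mul_one, add_sub_cancel_left]
    exact Finset.dvd_sum fun χ hχ => dvd_mul_of_dvd_right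
      (Int.natCast_dvd_natCast.2 (hX χ (Finset.mem_erase.1 hχ).2 (Finset.mem_erase.1 hχ).1)) _
  have hep : p - 1 = D.e * ((p - 1) / D.e) := (Nat.mul_div_cancel' D.e_dvd).symm
  have he2 : 2 * D.e + 1 ≤ p := by
    rcases Nat.lt_or_ge ((p - 1) / D.e) 2 with h | h
    · exfalso
      have h1 : D.e = p - 1 := by
        interval_cases h2 : (p - 1) / D.e
        · omega
        · omega
      rcases D.degree_small hθ hlt with ⟨h3, -⟩ | ⟨h3, -⟩ <;> omega
    · have := Nat.mul_le_mul_left D.e h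
      omega
  rcases D.degree_small hθ hlt with ⟨hfe, hε⟩ | ⟨hfe, hε⟩
  · -- `deg θ = e = (p - 1) / 2`
    obtain ⟨hb1, hb2⟩ := D.e_bound hG hθ hfe he1
    have hp2e : p = 2 * D.e + 1 := by omega
    rw [hfe] at hfg hθq hfle
    have hge : g = D.e := by
      obtain ⟨k, hk⟩ := hfg
      rcases Nat.lt_or_ge k 2 with h | h
      · interval_cases k <;> omega
      · have := Nat.mul_le_mul_left D.e h
        omega
    have hdvd := hb2 (by omega)
    rw [hcard, hge] at hdvd
    have h1 : D.e + 1 ∣ q ^ b := by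
      have h2 : D.e + 1 ∣ p * (q ^ b * D.e) :=
        (show D.e + 1 ∣ p + 1 from ⟨2, by omega⟩).trans hdvd
      have h3 : (D.e + 1).Coprime p :=
        (hp.coprime_iff_not_dvd.2 fun h => by have := Nat.le_of_dvd (by omega) h; omega).symm
      exact (show (D.e + 1).Coprime D.e by simp).dvd_of_dvd_mul_right (h3.dvd_of_dvd_mul_left h2)
    obtain ⟨s, -, hs⟩ := (Nat.dvd_prime_pow hq).1 h1
    have hs0 : 1 ≤ s := Nat.pos_of_ne_zero fun e0 => by rw [e0, pow_zero] at hs; omega
    obtain rfl : q = 2 := by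
      have h2 : (q : ℤ) ∣ (D.e : ℤ) + 1 := by
        have : q ∣ D.e + 1 := hs ▸ dvd_pow_self q (by omega)
        exact_mod_cast this
      have h3 := dvd_sub h2 hrelq
      rw [hε, hfe, show (D.e : ℤ) + 1 - (1 * (D.e : ℤ) - 1) = 2 by ring] at h3
      exact (Nat.prime_dvd_prime_iff_eq hq Nat.prime_two).1 (Int.natCast_dvd_natCast.1 h3)
    have hs2 : 2 ≤ s := by
      by_contra h
      obtain rfl : s = 1 := by omega
      omega
    have hps : p + 1 = 2 ^ (s + 1) := by rw [pow_succ, ← hs]; omega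
    have hn := plus_exponent D hG hC ht hX (s := s) (b := b) hs2 hps hs
      (fun θ' h => (hY θ' h).trans hfe) hε (by rw [hcard, hge])
    exact ⟨⟨s + 1, Or.inr (by omega)⟩, brauer hG P hP hC hn (not_third (by omega))⟩
  · -- `deg θ = p - e`
    have hge : g = deg θ := by
      obtain ⟨k, hk⟩ := hfg
      rcases Nat.lt_or_ge k 2 with h | h
      · interval_cases k <;> omega
      · have := Nat.mul_le_mul_left (deg θ) h
        omega
    have hn := card_of_group D hC hcard
    have hcop : D.e.Coprime g := by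
      rw [hge]
      refine Nat.coprime_of_dvd' fun k hk hke hkf => ?_
      have := (Nat.prime_dvd_prime_iff_eq hk hp).1 (hfe ▸ dvd_add hkf hke)
      subst this
      have := Nat.le_of_dvd (by omega) hke
      omega
    have h1 : D.e ∣ q ^ b := hcop.dvd_of_dvd_mul_right (hn ▸ dvd_mul_right _ _)
    obtain ⟨j, hjb, hj⟩ := (Nat.dvd_prime_pow hq).1 h1
    have hj0 : 1 ≤ j := Nat.pos_of_ne_zero fun e0 => by rw [e0, pow_zero] at hj; omega
    obtain rfl : q = 2 := by
      have hqe : q ∣ D.e := hj ▸ dvd_pow_self q (by omega)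
      have h2 : (q : ℤ) ∣ (p : ℤ) - 1 := by
        have := Int.natCast_dvd_natCast.2 (hqe.trans D.e_dvd)
        rwa [Nat.cast_sub hp.one_le] at this
      have h3 : (q : ℤ) ∣ (D.e : ℤ) := Int.natCast_dvd_natCast.2 hqe
      rw [hε] at hrelq
      have h4 := dvd_add (dvd_sub h2 h3) hrelq
      rw [show (p : ℤ) - 1 - D.e + (-1 * (deg θ : ℤ) - 1) = -2 by omega, dvd_neg] at h4
      exact (Nat.prime_dvd_prime_iff_eq hq Nat.prime_two).1 (Int.natCast_dvd_natCast.1 h4)
    rw [hge] at hcard hn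
    have hpb := minus_exponent D hG hC ht hts hX hj0 hj hfe he2 hY hε hcard
    obtain ⟨r, hr⟩ : ∃ r, Nat.card (Sylow p G) = 1 + r * p := by
      obtain ⟨c, hc⟩ := (Nat.modEq_iff_dvd' Nat.card_pos).1 (card_sylow_modEq_one p G).symm
      exact ⟨c, by have := Nat.card_pos (α := Sylow p G); rw [mul_comm c p]; omega⟩
    refine ⟨⟨b, Or.inl hpb⟩, brauer hG P hP hC hr (not_third ?_)⟩
    rw [hr] at hn
    have h5 : D.e * r * p + D.e + deg θ = p * deg θ := by
      have : (2 ^ b + 1) * deg θ = p * deg θ := by rw [← hpb]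
      linarith
    have h6 : D.e * r * p + 1 * p ≤ p * p := by
      have := Nat.mul_le_mul_left p hlt.le
      omega
    have h7 : D.e * r + 1 ≤ p := Nat.le_of_mul_le_mul_right (by linarith) hp.pos
    have h8 : 2 * r ≤ D.e * r := Nat.mul_le_mul_right r he1
    omega

/-- A simple group of order `p q^b g` with `g < p - 1`. -/
theorem main (hG : ¬ IsMulCommutative G) {q b g : ℕ} (hq : q.Prime) (hpq : p ≠ q)
    (hcard : Nat.card G = p * q ^ b * g) (hg : g < p - 1) :
    (∃ m : ℕ, p = 2 ^ m + 1 ∨ p = 2 ^ m - 1) ∧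
    ((∃ (F : Type) (_ : Field F) (_ : Fintype F), Fintype.card F = p ∧ 3 < p ∧
      Nonempty (G ≃* Matrix.ProjectiveSpecialLinearGroup (Fin 2) F)) ∨
    (∃ (m : ℕ) (F : Type) (_ : Field F) (_ : Fintype F), Fintype.card F = 2 ^ m ∧ p = 2 ^ m + 1 ∧ 3 < p ∧
      Nonempty (G ≃* Matrix.ProjectiveSpecialLinearGroup (Fin 2) F))) := by
  have hg0 : 0 < g := Nat.pos_of_ne_zero fun e => by
    have := Nat.card_pos (α := G)
    rw [hcard, e, mul_zero] at this
    omega
  obtain ⟨c, g', hg', rfl⟩ := Nat.exists_eq_pow_mul_and_not_dvd hg0.ne' q hq.ne_one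
  refine classify hG hq hpq (b := b + c) (g := g') (by rw [hcard, pow_add]; ring) hg' ?_
  have : g' ≤ q ^ c * g' := Nat.le_mul_of_pos_left _ (pow_pos hq.pos c)
  omega

end Cfsg.Agent.PrimeBlock.SmallCofactor
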