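import Cfsg.Agent.Lib.PrimeBlock.Brauer.Main
import Cfsg.Agent.Lib.PrimeBlock.Integer
import Cfsg.Agent.Lib.PrimeBlock.ThreePrimes

/-!
# Groups of order `p q^b g` with `g` small: the congruence at `2` and the degrees
-/

set_option autoImplicit false
set_option linter.style.haveILetI false
set_option linter.unusedSectionVars false

namespace Cfsg.Agent.PrimeBlock.SmallCofactor

open Cfsg.Agent.Characters Cfsg.Agent.Blocks Subgroup
open Cfsg.Agent.PrimeBlock.Brauer
open scoped ComplexConjugate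

universe u

variable {G : Type u} [Group G] [Finite G] {p : ℕ} [Fact p.Prime] {P : Sylow p G} (D : PBlock P)
  (hC : Nat.card (centralizer ((P : Subgroup G) : Set G)) = p)

include D in
theorem sgn_of_eq {χ : Cfsg.IrrCharacter G} (hχ : χ ∈ D.X) {c : ℤ} (hc : c = 1 ∨ c = -1)
    (hd : (p : ℤ) ∣ (deg χ : ℤ) - c) : D.sgn χ = c := by
  have h := (Int.ModEq.dvd (D.deg_X χ hχ).symm)
  have h' : (p : ℤ) ∣ D.sgn χ - c := by simpa using dvd_sub hd h
  have hp2 : (2 : ℤ) < p := by exact_mod_cast D.two_lt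
  by_contra hne
  have hlt := Int.le_of_dvd (a := (p : ℤ)) (b := |D.sgn χ - c|) (abs_pos.2 (sub_ne_zero.2 hne))
    ((dvd_abs _ _).2 h')
  rcases D.sgn_eq χ hχ with e | e <;> rcases hc with rfl | rfl <;> rw [e] at hlt hne <;>
    norm_num at hlt hne <;> omega

include D hC in
theorem centralizer_singular {g : G} (hg : p ∣ orderOf g) :
    Nat.card (centralizer ({g} : Set G)) = p := by
  obtain ⟨-, x, hx, hx1, hc⟩ := singular D hC hg
  rw [card_centralizer_conj hc, D.centralizer_eq hx hx1, hC]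

include D hC in
/-- The exceptional characters of odd degree lie in one block at `2`. -/
theorem mem_principal_two {M : Ideal Cfsg.AlgInt} (hM : Cfsg.IsPModular 2 M)
    (h2G : 2 ∣ Nat.card G) {θ θ' : Cfsg.IrrCharacter G} (hθ : θ ∈ D.Y) (hθ' : θ' ∈ D.Y)
    (hodd : ¬ 2 ∣ deg θ) (hmem : θ ∈ Cfsg.principalBlock M G) :
    θ' ∈ Cfsg.principalBlock M G := by
  refine mem_of_sameBlock hM (isPBlock_principal M G) hmem fun g => ?_
  have hd : (deg θ' : ℕ) = deg θ := D.deg_Y_eq hθ' hθ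
  rw [Cfsg.centralChar, Cfsg.centralChar, ← deg_cast, ← deg_cast, hd, ← sub_div, ← mul_sub]
  by_cases hg : p ∣ orderOf g
  swap
  · rw [D.same θ hθ θ' hθ' g hg, sub_self, mul_zero, zero_div]
    exact ideal_zero hM
  have h2i : 2 ∣ (centralizer ({g} : Set G)).index := by
    rw [← card_mul_index (centralizer ({g} : Set G)), centralizer_singular D hC hg] at h2G
    refine (Nat.prime_two.dvd_mul.1 h2G).resolve_left fun h => D.odd ?_
    exact ((Nat.prime_dvd_prime_iff_eq Nat.prime_two Fact.out).1 h).symm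
  refine ⟨((centralizer ({g} : Set G)).index : Cfsg.AlgInt) *
    ⟨(θ : G → ℂ) g - (θ' : G → ℂ) g, (char_value_isIntegral (irr_isCharacter θ) g).sub
      (char_value_isIntegral (irr_isCharacter θ') g)⟩, (deg θ : Cfsg.AlgInt),
    M.mul_mem_right _ ((natCast_mem_iff hM _).2 h2i), fun h => hodd ((natCast_mem_iff hM _).1 h), ?_⟩
  simp

include D hC in
/-- The congruence of the blocks at `p` and `2`. -/
theorem congr_two [IsSimpleGroup G] (hG : ¬ IsMulCommutative G) (ht : trivIrr G ∈ D.X)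
    (h2G : 2 ∣ Nat.card G)
    (hX : ∀ χ ∈ D.X, χ ≠ trivIrr G → 2 ∣ deg χ)
    {f : ℕ} (hf : ∀ θ ∈ D.Y, deg θ = f)
    [DecidableEq (Cfsg.IrrCharacter G)] :
    ∃ S : Finset (Cfsg.IrrCharacter G), S ⊆ D.X.erase (trivIrr G) ∧
      (∀ χ ∈ S, ∀ k, deg χ ≠ 2 ^ k) ∧
      (2 : ℤ) ^ (Nat.card G).factorization 2 ∣
        1 - D.ε * (f : ℤ) + ∑ χ ∈ S, D.sgn χ * (deg χ : ℤ) := by
  classical
  have hp2 : (2 : ℕ) ≠ p := fun h => D.odd h.symm
  have h2C : ¬ 2 ∣ Nat.card (centralizer ((P : Subgroup G) : Set G)) := by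
    rw [hC]; exact fun h => hp2 ((Nat.prime_dvd_prime_iff_eq Nat.prime_two Fact.out).1 h)
  obtain ⟨M, hM⟩ := BlockCharsA.DefectZeroVanish.exists_modular Nat.prime_two
  obtain ⟨θ₀, hθ₀B, hθ₀M, hθ₀ne, hθ₀2, -⟩ := D.exists_common hG Nat.prime_two hp2 h2G h2C hM
  have hθ₀ : θ₀ ∈ D.Y := ((D.mem_block _).1 hθ₀B).resolve_left fun h => hθ₀2 (hX θ₀ h hθ₀ne)
  have hY : ∀ θ ∈ D.Y, θ ∈ Cfsg.principalBlock M G := fun θ hθ =>
    mem_principal_two D hC hM h2G hθ₀ hθ hθ₀2 hθ₀M
  have hna : ∃ a b : G, a * b ≠ b * a := by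
    by_contra h
    push Not at h
    exact hG ⟨⟨h⟩⟩
  obtain ⟨x, hx1, hx⟩ := D.exists_ne_one
  set b := (Nat.card G).factorization 2 with hb
  obtain ⟨ω, hω⟩ := BlocksChars.PQBlocks.pq_block_sum (Ne.symm hp2) D.hM hM
    (D.no_pq Nat.prime_two hp2 h2C)
    (b := b) rfl (isPBlock_principal D.M G) (isPBlock_principal M G)
    (y := x) (by rw [D.orderOf_eq hx hx1])
  set U := (D.X.erase (trivIrr G)).filter fun χ => χ ∈ Cfsg.principalBlock M G with hU
  have hset : (Set.toFinite (Cfsg.principalBlock D.M G ∩ Cfsg.principalBlock M G)).toFinset =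
      insert (trivIrr G) (U ∪ D.Y) := by
    ext χ
    simp only [Set.Finite.mem_toFinset, Set.mem_inter_iff, D.mem_block, Finset.mem_insert,
      Finset.mem_union, hU, Finset.mem_filter, Finset.mem_erase]
    constructor
    · rintro ⟨h | h, h'⟩
      · by_cases hc : χ = trivIrr G
        · exact Or.inl hc
        · exact Or.inr (Or.inl ⟨⟨hc, h⟩, h'⟩)
      · exact Or.inr (Or.inr h)
    · rintro (rfl | ⟨⟨-, h⟩, h'⟩ | h)
      · exact ⟨Or.inl ht, trivIrr_mem_principal hM⟩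
      · exact ⟨Or.inl h, h'⟩
      · exact ⟨Or.inr h, hY χ h⟩
  have hdisj : Disjoint U D.Y := Finset.disjoint_of_subset_left
    ((Finset.filter_subset _ _).trans (Finset.erase_subset _ _)) D.disj
  rw [finsum_mem_eq_finite_toFinset_sum _ (Set.toFinite _), hset,
    Finset.sum_insert (by
      simp only [hU, Finset.mem_union, Finset.mem_filter, Finset.mem_erase]
      rintro (⟨⟨h, -⟩, -⟩ | h)
      · exact h rfl
      · exact Finset.disjoint_left.1 D.disj ht h),
    Finset.sum_union hdisj] at hω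
  rw [Finset.sum_congr (s₁ := D.Y) rfl fun θ hθ => show
      (Cfsg.charDegree (θ : G → ℂ) : ℂ) * (θ : G → ℂ) x = (f : ℂ) * (θ : G → ℂ) x by
        rw [show Cfsg.charDegree (θ : G → ℂ) = f from hf θ hθ],
    ← Finset.mul_sum, D.sum_Y hx hx1] at hω
  rw [Finset.sum_congr (s₁ := U) rfl fun χ hχ => show
      (Cfsg.charDegree (χ : G → ℂ) : ℂ) * (χ : G → ℂ) x = (((D.sgn χ * (deg χ : ℤ)) : ℤ) : ℂ) by
        rw [D.val_X' (Finset.mem_erase.1 (Finset.mem_filter.1 hχ).1).2 hx hx1]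
        push_cast; rw [mul_comm]] at hω
  simp only [trivIrr_coe, mul_one] at hω
  rw [show Cfsg.charDegree ((fun _ : G => (1 : ℂ))) = 1 by simp [Cfsg.charDegree], Nat.cast_one] at hω
  refine ⟨U, Finset.filter_subset _ _, fun χ hχ k hk => ?_, ?_⟩
  · have hm := Finset.mem_filter.1 hχ
    refine (Finset.mem_erase.1 hm.1).1 (eq_trivIrr_of_degree_pow hM hna hm.2 (k := k) ?_)
    rw [← deg_cast, hk, Nat.cast_pow]
  set Z := 1 - D.ε * (f : ℤ) + ∑ χ ∈ U, D.sgn χ * (deg χ : ℤ) with hZ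
  have hq0 : (2 : ℂ) ^ b ≠ 0 := pow_ne_zero _ two_ne_zero
  have hωq : (ω : ℂ) = ((((Z : ℤ) : ℚ) / (2 : ℚ) ^ b : ℚ) : ℂ) := by
    push_cast at hω ⊢
    rw [eq_div_iff hq0, hZ]
    push_cast
    linear_combination -hω
  obtain ⟨k, hk⟩ := exists_int_of_isIntegral_ratCast (hωq ▸ ω.2)
  refine ⟨k, ?_⟩
  have hk' : ((Z : ℚ) / (2 : ℚ) ^ b) = (k : ℚ) := by exact_mod_cast hk
  rw [div_eq_iff (pow_ne_zero _ two_ne_zero)] at hk'
  have : (Z : ℚ) = (((2 : ℤ) ^ b * k : ℤ) : ℚ) := by push_cast; rw [hk']; ring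
  exact_mod_cast this

/-- The odd part of a degree, modulo `p = 2 ^ M ± 1`. -/
theorem odd_part {M f : ℕ} (hM2 : 2 ≤ M) (hsq : (2 : ZMod p) ^ M = 1 ∨ (2 : ZMod p) ^ M = -1)
    (hlt : 2 ^ (M - 1) < p) (hf : f + 2 ^ (M - 2) < p) (hf1 : f + 1 < p) {i d : ℕ} (hd2 : ¬ 2 ∣ d)
    (hdf : d ≤ f) {c : ZMod p} (hc : c = 1 ∨ c = -1) (h : ((2 ^ i * d : ℕ) : ZMod p) = c) :
    (d = 1 ∧ i % M = 0) ∨ (i % M = 1 ∧ d + 2 ^ (M - 1) = p) := by
  have hd0 : 0 < d := Nat.pos_of_ne_zero fun e => hd2 (e ▸ dvd_zero 2)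
  have hr : i % M < M := Nat.mod_lt _ (by omega)
  -- the residue class of `d`
  have hpm : ∀ k : ℕ, ((2 : ZMod p) ^ M) ^ k = 1 ∨ ((2 : ZMod p) ^ M) ^ k = -1 := fun k => by
    rcases hsq with e | e <;> rw [e]
    · exact Or.inl (one_pow k)
    · exact neg_one_pow_eq_or _ k
  have hi : (2 : ZMod p) ^ i = ((2 : ZMod p) ^ M) ^ (i / M) * 2 ^ (i % M) := by
    rw [← pow_mul, ← pow_add, Nat.div_add_mod]
  have hres : ((d : ℕ) : ZMod p) * 2 ^ (i % M) = 1 ∨ ((d : ℕ) : ZMod p) * 2 ^ (i % M) = -1 := by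
    push_cast at h
    rw [hi] at h
    rcases hpm (i / M) with e | e <;> rw [e] at h <;> rcases hc with rfl | rfl
    · exact Or.inl (by linear_combination h)
    · exact Or.inr (by linear_combination h)
    · exact Or.inr (by linear_combination -h)
    · exact Or.inl (by linear_combination -h)
  have hneg : ∀ a : ℕ, 0 < a → a < p → (d : ZMod p) = (a : ZMod p) ∨ (d : ZMod p) = -(a : ZMod p) →
      d = a ∨ d + a = p := by
    intro a ha0 ha h'
    rcases h' with h' | h'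
    · left
      have := (ZMod.natCast_eq_natCast_iff' d a p).1 h'
      rwa [Nat.mod_eq_of_lt (by omega), Nat.mod_eq_of_lt ha] at this
    · right
      obtain ⟨t, ht⟩ := (ZMod.natCast_eq_zero_iff (d + a) p).1 (by push_cast; rw [h']; ring)
      have ht0 : 0 < t := Nat.pos_of_ne_zero fun e => by rw [e, mul_zero] at ht; omega
      have ht2 : t < 2 := by
        by_contra hh
        have := Nat.mul_le_mul_left p (show 2 ≤ t by omega)
        omega
      rw [show t = 1 by omega, mul_one] at ht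
      exact ht
  rcases Nat.eq_zero_or_pos (i % M) with hr0 | hr0
  · left
    refine ⟨?_, hr0⟩
    rw [hr0, pow_zero, mul_one] at hres
    rcases hneg 1 one_pos (Fact.out : p.Prime).one_lt (by simpa using hres) with e | e
    · exact e
    · omega
  have hval : (d : ZMod p) = ((2 ^ (M - i % M) : ℕ) : ZMod p) ∨
      (d : ZMod p) = -((2 ^ (M - i % M) : ℕ) : ZMod p) := by
    have e : (2 : ZMod p) ^ (i % M) * 2 ^ (M - i % M) = 2 ^ M := by
      rw [← pow_add, Nat.add_sub_cancel' hr.le]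
    push_cast
    rcases hsq with e' | e' <;> rw [e'] at e <;> rcases hres with h' | h'
    · exact Or.inl (by linear_combination (2 : ZMod p) ^ (M - i % M) * h' - (d : ZMod p) * e)
    · exact Or.inr (by linear_combination (2 : ZMod p) ^ (M - i % M) * h' - (d : ZMod p) * e)
    · exact Or.inr (by linear_combination -(2 : ZMod p) ^ (M - i % M) * h' + (d : ZMod p) * e)
    · exact Or.inl (by linear_combination -(2 : ZMod p) ^ (M - i % M) * h' + (d : ZMod p) * e)
  have hle : 2 ^ (M - i % M) ≤ 2 ^ (M - 1) := Nat.pow_le_pow_right two_pos (by omega)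
  rcases hneg _ (Nat.two_pow_pos _) (by omega) hval with e | e
  · exact absurd (e ▸ dvd_pow_self 2 (by omega)) hd2
  · right
    have hr1 : i % M = 1 := by
      by_contra hne
      have : 2 ^ (M - i % M) ≤ 2 ^ (M - 2) := Nat.pow_le_pow_right two_pos (by omega)
      omega
    exact ⟨hr1, hr1 ▸ e⟩

include D in
/-- The two-part and odd part of a member's degree. -/
theorem degree_split {χ : Cfsg.IrrCharacter G} (hχ : χ ∈ D.X) {b f : ℕ}
    (hcard : Nat.card G = p * (2 ^ b * f)) :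
    ∃ i d : ℕ, deg χ = 2 ^ i * d ∧ ¬ 2 ∣ d ∧ d ∣ f := by
  have h0 : 0 < deg χ := charDegree_pos χ
  obtain ⟨i, d, hd, he⟩ := Nat.exists_eq_pow_mul_and_not_dvd h0.ne' 2 (by norm_num)
  refine ⟨i, d, he, hd, ?_⟩
  have h := char_degree_dvd_card χ
  rw [hcard, show Cfsg.charDegree (χ : G → ℂ) = deg χ from rfl] at h
  have hp : ¬ p ∣ deg χ := D.not_dvd_deg ((D.mem_block χ).2 (Or.inl hχ))
  have h1 := (((Fact.out : p.Prime).coprime_iff_not_dvd.2 hp).symm).dvd_of_dvd_mul_left h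
  exact ((Nat.prime_two.coprime_iff_not_dvd.2 hd).symm.pow_right b).dvd_of_dvd_mul_left
    ((he ▸ dvd_mul_left d (2 ^ i)).trans h1)

include D in
theorem card_of_group (hC : Nat.card (centralizer ((P : Subgroup G) : Set G)) = p) {a : ℕ}
    (hcard : Nat.card G = p * a) : D.e * Nat.card (Sylow p G) = a := by
  have h := card_group D hC
  rw [hcard, mul_assoc] at h
  exact (Nat.eq_of_mul_eq_mul_left (Fact.out : p.Prime).pos h).symm

end Cfsg.Agent.PrimeBlock.SmallCofactor
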