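import Cfsg.Agent.Lib.PrimeBlock.SmallCofactor.Basic

/-!
# The exceptional degree `(p - 1) / 2`, `p = 2 ^ (s + 1) - 1`: the two-part is `p + 1`
-/

set_option autoImplicit false
set_option linter.style.haveILetI false
set_option linter.unusedSectionVars false

namespace Cfsg.Agent.PrimeBlock.SmallCofactor

open Cfsg.Agent.Characters Cfsg.Agent.Blocks Subgroup
open Cfsg.Agent.PrimeBlock.Brauer Cfsg.Agent.SmallSimple

universe u

variable {G : Type u} [Group G] [Finite G] [IsSimpleGroup G] {p : ℕ} [Fact p.Prime] {P : Sylow p G}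

theorem no_count_plus {s c : ℕ} (hs : 2 ≤ s) (hc : c + 2 ≤ 2 ^ s)
    (h : (2 : ℤ) ^ (s + 2) ∣ 1 - ((2 : ℤ) ^ s - 1) - 2 * ((2 : ℤ) ^ s - 1) * (c : ℤ)) : False := by
  obtain ⟨t, rfl⟩ : ∃ t, s = t + 2 := ⟨s - 2, by omega⟩
  obtain ⟨w, hw⟩ := h
  set A : ℤ := 2 ^ t with hA
  have e1 : (2 : ℤ) ^ (t + 2) = 4 * A := by rw [hA, pow_add]; ring
  have e2 : (2 : ℤ) ^ (t + 2 + 2) = 16 * A := by rw [hA, pow_add, pow_add]; ring
  rw [e1, e2] at hw
  have hA1 : 0 < A := pow_pos two_pos _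
  have hcA : (c : ℤ) + 2 ≤ 4 * A := by rw [← e1]; exact_mod_cast hc
  have key : (c : ℤ) + 1 - 2 * A = 4 * A * (c + 2 * w) := by linarith
  have hz : (c : ℤ) + 2 * w = 0 := by
    have hlo : -1 < (c : ℤ) + 2 * w := by
      by_contra hh
      push Not at hh
      have := mul_le_mul_of_nonneg_left hh (show 0 ≤ 4 * A by omega)
      have : 0 ≤ (c : ℤ) := Int.natCast_nonneg c
      linarith
    have hhi : (c : ℤ) + 2 * w < 1 := by
      by_contra hh
      push Not at hh
      have := mul_le_mul_of_nonneg_left hh (show 0 ≤ 4 * A by omega)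
      linarith
    omega
  rw [hz, mul_zero] at key
  omega

variable (D : PBlock P)

include D in
theorem plus_exponent (hG : ¬ IsMulCommutative G)
    (hC : Nat.card (centralizer ((P : Subgroup G) : Set G)) = p)
    (ht : trivIrr G ∈ D.X)
    (hX : ∀ χ ∈ D.X, χ ≠ trivIrr G → 2 ∣ deg χ) {s b : ℕ} (hs : 2 ≤ s)
    (hp : p + 1 = 2 ^ (s + 1)) (he : D.e + 1 = 2 ^ s) (hY : ∀ θ ∈ D.Y, deg θ = D.e)
    (hε : D.ε = 1) (hcard : Nat.card G = p * (2 ^ b * D.e)) :
    Nat.card (Sylow p G) = 1 + 1 * p := by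
  classical
  have hp0 : p.Prime := Fact.out
  have hps : 2 ^ (s + 1) = 2 * 2 ^ s := by rw [pow_succ]; ring
  have hn : Nat.card (Sylow p G) = 2 ^ b := by
    refine Nat.eq_of_mul_eq_mul_left D.e_pos ?_
    rw [card_of_group D hC hcard, mul_comm]
  obtain ⟨c, hc⟩ := (Nat.modEq_iff_dvd' Nat.card_pos).1 (card_sylow_modEq_one p G).symm
  have h1 := Basic.one_lt_card_sylow (p := p) hG (prime_dvd_card D)
  have hge : p + 1 ≤ Nat.card (Sylow p G) := by
    have hc0 : 1 ≤ c := Nat.pos_of_ne_zero fun e => by rw [e, mul_zero] at hc; omega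
    have := Nat.mul_le_mul_left p hc0
    omega
  have hb1 : s + 1 ≤ b := by
    rw [hn, hp] at hge
    exact (Nat.pow_le_pow_iff_right (by norm_num)).1 hge
  suffices b = s + 1 by rw [hn, this, one_mul, add_comm 1 p, hp]
  by_contra hne
  have hb2 : s + 2 ≤ b := by omega
  have h2G : 2 ∣ Nat.card G :=
    hcard ▸ dvd_mul_of_dvd_right (dvd_mul_of_dvd_left (dvd_pow_self 2 (by omega)) _) _
  have hodd : ¬ 2 ∣ D.e := fun h => by
    have : 2 ∣ D.e + 1 := he ▸ dvd_pow_self 2 (by omega)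
    omega
  have hfac : b ≤ (Nat.card G).factorization 2 :=
    (Nat.prime_two.pow_dvd_iff_le_factorization Nat.card_pos.ne').1
      (hcard ▸ dvd_mul_of_dvd_right (dvd_mul_right _ _) _)
  obtain ⟨S, hS, hpure, hdvd⟩ := congr_two D hC hG ht h2G hX hY
  rw [hε, one_mul] at hdvd
  have hdvd' : (2 : ℤ) ^ (s + 2) ∣ 1 - (D.e : ℤ) + ∑ χ ∈ S, D.sgn χ * (deg χ : ℤ) :=
    (pow_dvd_pow 2 (by omega)).trans hdvd
  have hsq : (2 : ZMod p) ^ (s + 1) = 1 := by
    have : ((2 ^ (s + 1) : ℕ) : ZMod p) = 1 := by rw [← hp]; simp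
    exact_mod_cast this
  have hterm : ∀ χ ∈ S, (2 : ℤ) ^ (s + 2) ∣ D.sgn χ * (deg χ : ℤ) +
      if deg χ = 2 * D.e then 2 * (D.e : ℤ) else 0 := by
    intro χ hχ
    have hχX := (Finset.mem_erase.1 (hS hχ)).2
    by_cases hd2 : deg χ = 2 * D.e
    · rw [if_pos hd2, sgn_of_eq D hχX (c := -1) (Or.inr rfl) ⟨1, ?_⟩, hd2]
      · push_cast; exact ⟨0, by ring⟩
      · rw [hd2]; push_cast
        have : ((p + 1 : ℕ) : ℤ) = ((2 * D.e + 2 : ℕ) : ℤ) := by
          exact_mod_cast (show p + 1 = 2 * D.e + 2 by omega)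
        push_cast at this
        linarith
    rw [if_neg hd2, add_zero]
    obtain ⟨i, d, hid, hd, hde⟩ := degree_split D hχX hcard
    have hcong : ((2 ^ i * d : ℕ) : ZMod p) = (D.sgn χ : ZMod p) := by
      have h := (ZMod.intCast_eq_intCast_iff _ _ p).2 (D.deg_X χ hχX)
      rw [← hid]
      exact_mod_cast h
    have hc : (D.sgn χ : ZMod p) = 1 ∨ (D.sgn χ : ZMod p) = -1 := by
      rcases D.sgn_eq χ hχX with e | e <;> rw [e] <;> simp
    have hlow : 2 ^ (s + 1 - 2) < 2 ^ s := Nat.pow_lt_pow_right one_lt_two (by omega)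
    have h4 : 2 ^ 2 ≤ 2 ^ s := Nat.pow_le_pow_right two_pos hs
    norm_num at h4
    have hsmall : D.e + 2 ^ (s + 1 - 2) < p := by
      generalize 2 ^ (s + 1 - 2) = y at hlow ⊢
      generalize 2 ^ (s + 1) = w at hp hps
      generalize 2 ^ s = z at hlow h4 he hps
      omega
    rcases odd_part (p := p) (M := s + 1) (f := D.e) (by omega) (Or.inl hsq)
      (by rw [Nat.add_sub_cancel]; omega) hsmall (by omega) hd (Nat.le_of_dvd D.e_pos hde) hc hcong
      with ⟨rfl, -⟩ | ⟨hi, hde'⟩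
    · exact absurd (by rw [hid, mul_one]) (hpure χ hχ i)
    · rw [Nat.add_sub_cancel] at hde'
      have hd' : d = D.e := by omega
      have hi2 : s + 2 ≤ i := by
        have hdm := Nat.div_add_mod i (s + 1)
        rcases Nat.eq_zero_or_pos (i / (s + 1)) with h0 | h0
        · rw [h0, mul_zero, zero_add, hi] at hdm
          exact absurd (by rw [hid, hd', ← hdm, pow_one]) hd2
        · have := Nat.le_mul_of_pos_right (s + 1) h0
          omega
      refine dvd_mul_of_dvd_right ?_ _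
      rw [hid]
      push_cast
      exact dvd_mul_of_dvd_left (pow_dvd_pow 2 hi2) _
  have hsum := Finset.dvd_sum hterm
  rw [Finset.sum_add_distrib, ← Finset.sum_filter, Finset.sum_const, nsmul_eq_mul] at hsum
  have hkey := dvd_sub hdvd' hsum
  set K := (S.filter fun χ => deg χ = 2 * D.e).card with hK
  have hKle : K + 2 ≤ 2 ^ s := by
    have h1 : K ≤ S.card := Finset.card_filter_le _ _
    have h2 := Finset.card_le_card hS
    rw [Finset.card_erase_of_mem ht, D.card_X] at h2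
    have h4 : 2 ^ 2 ≤ 2 ^ s := Nat.pow_le_pow_right two_pos hs
    norm_num at h4
    omega
  refine no_count_plus hs hKle ?_
  have heZ : (D.e : ℤ) = 2 ^ s - 1 := by
    have : ((D.e + 1 : ℕ) : ℤ) = ((2 ^ s : ℕ) : ℤ) := by rw [he]
    push_cast at this
    linarith
  refine (congrArg ((2 : ℤ) ^ (s + 2) ∣ ·) ?_).mp hkey
  rw [heZ]
  ring

end Cfsg.Agent.PrimeBlock.SmallCofactor
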